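import Cfsg.Agent.Lib.SchurTable.GTwoThreeSub
import Cfsg.Agent.Lib.SchurTable.GTwoThreeData

/-! Kernel checks of the certificates for the G2 group over three elements. -/

set_option autoImplicit false
set_option maxRecDepth 200000
set_option maxHeartbeats 0

namespace CfsgLib.SchurTable.GTwoThree

open CfsgLib.SchurTable.Level

theorem pairs_true : checkPairs data.toData labels 3 1 data.n 0 = true := by decide +kernel

theorem range_true : checkRange labels 3 1 (2 * data.n) 0 = true := by decide +kernel

end CfsgLib.SchurTable.GTwoThree
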