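import Cfsg.Agent.Lib.SchurTable.GTwoThreeSub
import Cfsg.Agent.Lib.SchurTable.GTwoThreeData

/-! Kernel checks of the certificates for the G2 group over three elements. -/

set_option autoImplicit false
set_option maxRecDepth 200000
set_option maxHeartbeats 0

namespace CfsgLib.SchurTable.GTwoThree

open CfsgLib.SchurTable.Level

theorem subFacts_true : checkFacts Sub.data Sub.data.steps 0 = true := by decide +kernel

theorem subEdges_true : Level.checkEdges Sub.data (2 * Sub.data.n) 0 = true := by decide +kernel

theorem subInv_true : checkInv Sub.data.toData Sub.data.n 0 = true := by decide +kernel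

theorem subBound_true : checkLBound Sub.data Sub.bound 1 1 = true := by decide +kernel

end CfsgLib.SchurTable.GTwoThree
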