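import Cfsg.Agent.Lib.SchurTable.GTwoThreeChecksTop
import Cfsg.Agent.Lib.SchurTable.GTwoThreeChecksSub
import Cfsg.Agent.Lib.SchurTable.GTwoThreeChecksCover

/-! Kernel checks of the certificates for the G2 group over three elements. -/

set_option autoImplicit false
set_option maxRecDepth 200000
set_option maxHeartbeats 0

namespace CfsgLib.SchurTable.GTwoThree

open CfsgLib.SchurTable.Level

theorem linked : Linked data Sub.data 8 := by
  refine ⟨⟨?_, ?_, ?_, facts_true, edges_true, inv_true⟩,
    ⟨?_, ?_, ?_, subFacts_true, subEdges_true, subInv_true⟩, ?_, ?_, ?_, ?_, ?_, ?_, ?_⟩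
  all_goals decide +kernel

end CfsgLib.SchurTable.GTwoThree
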