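import Cfsg.Agent.Lib.SchurTable.GTwoThreeSub
import Cfsg.Agent.Lib.SchurTable.GTwoThreeData

/-! Kernel checks of the certificates for the G2 group over three elements. -/

set_option autoImplicit false
set_option maxRecDepth 200000
set_option maxHeartbeats 0

namespace CfsgLib.SchurTable.GTwoThree

open CfsgLib.SchurTable.Level

theorem facts_true : checkFacts data data.steps 0 = true := by decide +kernel

theorem edges_true : Level.checkEdges data (2 * data.n) 0 = true := by decide +kernel

theorem inv_true : checkInv data.toData data.n 0 = true := by decide +kernel

theorem bound_true : checkLBound data bound 3 1 = true := by decide +kernel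

end CfsgLib.SchurTable.GTwoThree
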