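import Cfsg.Agent.Lib.SchurTable.Ternary
import Cfsg.Agent.Lib.SchurTable.Cover
import Cfsg.Agent.Lib.SchurTable.GTwoThreeData
import Cfsg.Prelude.Def_ChevG2

/-!
Two generators of the G2 group over three elements satisfy the tabulated relators and generate.
-/

set_option autoImplicit false
set_option maxRecDepth 100000

namespace CfsgLib.SchurTable.GTwoThree

open Cfsg.Lie CfsgLib.SchurTable

/-- The packed matrices of the root elements at one. -/
def rootRows : List (List ℕ) :=
  [[134217729, 8194, 134217734, 264, 1040, 33554464, 64, 67108992, 256, 512, 1024, 2048, 4096, 8192],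
    [67108865, 67108866, 132, 67141640, 528, 32, 33554496, 128, 134217984, 512, 1024, 2048, 4096, 8192],
    [2049, 2, 4100, 134217736, 33554449, 4640, 150995008, 128, 256, 67109376, 134218752, 2048, 4096, 8192],
    [16777217, 2, 260, 8, 4194384, 16793634, 320, 134217856, 256, 33563136, 1024, 10240, 4096, 8192],
    [8388609, 2, 4, 2097160, 524432, 160, 8437824, 128, 4352, 512, 67111936, 6144, 4096, 8192],
    [1, 4194306, 131076, 8, 16, 1048608, 64, 4227200, 256, 1536, 1024, 2048, 12288, 8192],
    [1, 130, 4, 65544, 16, 32, 524352, 128, 2097410, 512, 1536, 2048, 4096, 12288],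
    [65, 2, 4, 8, 131088, 393248, 64, 131200, 256, 1049091, 4195328, 3328, 4352, 8192],
    [33, 2, 4, 8, 65552, 32, 84, 128, 260, 2097664, 558081, 10487808, 4096, 2105344],
    [262145, 2, 4, 8, 16, 36, 72, 128, 256, 66080, 1049608, 280576, 4100, 139264],
    [9, 10, 4, 8, 16, 32, 64, 132, 256, 528, 1024, 1050624, 135170, 4202496],
    [5, 65538, 4, 8, 16, 32, 64, 128, 264, 512, 1040, 526336, 2101248, 106496]]

/-- The word of the first generator in root elements. -/
def wordX : List ℕ := [2, 0, 7, 6, 0, 0, 5, 6, 2]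

/-- The word of the second generator in root elements. -/
def wordY : List ℕ := [4, 0, 1, 10]

/-- Words for the root elements in the two generators. -/
def rootWords : List (List ℕ) :=
  [[0, 1, 0, 1, 0, 1, 1, 1, 0, 3, 3, 3, 3, 0, 3, 3, 3, 3, 0, 1, 1, 1],
    [0, 1, 0, 1, 1, 0, 1, 0, 1, 1, 1, 1, 0, 1, 1, 1, 1, 0, 1, 1, 1, 1],
    [0, 1, 1, 0, 1, 1, 1, 0, 1, 1, 1, 1, 1, 0, 1, 1, 1, 1, 1, 0, 3, 3],
    [0, 1, 0, 1, 1, 1, 1, 1, 0, 3, 0, 1, 1, 1, 1, 1],
    [0, 1, 0, 1, 1, 0, 3, 0, 3, 3, 3, 3, 3, 0, 1, 1, 0, 3, 3, 3, 3, 3, 3],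
    [3, 3, 3, 0, 1, 1, 1, 0, 1, 0, 3, 3, 3, 0, 1, 1, 1, 1, 1, 0, 3, 3, 3, 3, 0, 3, 3, 3, 3, 0,
      3, 3, 3, 3, 3, 3],
    [0, 1, 0, 3, 3, 0, 3, 0, 1, 1, 1, 1, 0, 3, 3, 3, 3, 3, 0, 3, 3, 3, 3, 0, 1, 1, 1],
    [1, 1, 0, 1, 0, 1, 1, 1, 1, 0, 3, 3, 3, 0, 1, 1, 1, 1, 0, 1, 0, 1],
    [3, 0, 3, 3, 3, 0, 3, 0, 1, 1, 0, 3, 0, 3, 3, 3, 0, 3, 3],
    [1, 1, 1, 0, 1, 0, 3, 3, 3, 3, 3, 0, 1, 1, 1, 1, 1, 0, 3, 3, 3, 3, 3, 0, 1, 1, 1, 1, 0, 3,
      3, 3],
    [1, 1, 1, 0, 3, 3, 3, 3, 0, 3, 3, 3, 0, 1, 1, 1, 0, 1, 1, 1, 0, 1, 1, 1],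
    [0, 1, 1, 0, 3, 3, 0, 3, 3, 0, 3, 3, 3, 0, 1, 1, 1, 1, 0, 3, 3, 0, 1, 1, 1]]

/-- The position of a basis vector. -/
def pos : chevG2.Idx ≃ Fin 14 := finSumFinEquiv

/-- The packed identity. -/
def oneM : List ℕ := (List.range 14).map fun i => 2 ^ i

/-- The packed value of a word in a list of packed matrices. -/
def evalM (L : List (List ℕ)) : List ℕ → List ℕ
  | [] => oneM
  | r :: w => Ternary.mulM 14 (L.getD r oneM) (evalM L w)

/-- All partial products are valid. -/
def okEval (L : List (List ℕ)) : List ℕ → Bool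
  | [] => true
  | r :: w => Ternary.okM 14 (L.getD r oneM) && Ternary.okM 14 (evalM L w) && okEval L w

/-- The inverse word in root elements of order three. -/
def invWord (w : List ℕ) : List ℕ := w.reverse.flatMap fun r => [r, r]

/-- The packed generators and their inverses. -/
def genRows : List (List ℕ) :=
  [evalM rootRows wordX, evalM rootRows wordY, evalM rootRows (invWord wordX),
    evalM rootRows (invWord wordY)]

theorem toM_one : Ternary.toM 14 pos oneM = 1 := by decide +kernel

theorem rootMat_eq : ∀ r : Fin chevG2.nroots,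
    chevG2.xMat (ZMod 3) r 1 = Ternary.toM 14 pos (rootRows.getD r.val oneM) := by decide +kernel

theorem xMat_two : ∀ r : Fin chevG2.nroots,
    chevG2.xMat (ZMod 3) r 2 = Ternary.toM 14 pos (evalM rootRows [r.val, r.val]) := by decide +kernel

theorem xMat_zero : ∀ r : Fin chevG2.nroots,
    chevG2.xMat (ZMod 3) r 0 = (1 : Matrix chevG2.Idx chevG2.Idx (ZMod 3)) := by decide +kernel

theorem toM_eval (L : List (List ℕ)) {Γ : Type} [Group Γ] (c : Γ →* Matrix chevG2.Idx chevG2.Idx (ZMod 3))
    (g : ℕ → Γ) (hL : ∀ r, r < L.length → c (g r) = Ternary.toM 14 pos (L.getD r oneM)) :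
    ∀ w : List ℕ, (w.all fun r => Nat.blt r L.length) = true → okEval L w = true →
      c ((w.map g).prod) = Ternary.toM 14 pos (evalM L w) := by
  intro w
  induction w with
  | nil => intro _ _; simp [evalM, toM_one]
  | cons r w ih =>
    intro h1 h2
    simp only [List.all_cons, Bool.and_eq_true, Nat.blt_eq] at h1
    simp only [okEval, Bool.and_eq_true] at h2
    rw [List.map_cons, List.prod_cons, map_mul, hL r h1.1, ih h1.2 h2.2, evalM,
      Ternary.toM_mulM 14 pos h2.1.1 h2.1.2]

/-- A root element at one. -/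
def rootGL (r : Fin chevG2.nroots) : GL chevG2.Idx (ZMod 3) where
  val := chevG2.xMat (ZMod 3) r 1
  inv := chevG2.xMat (ZMod 3) r 2
  val_inv := by
    have h : ∀ r : Fin chevG2.nroots, Ternary.okM 14 (rootRows.getD r.val oneM) = true ∧
        Ternary.okM 14 (evalM rootRows [r.val, r.val]) = true ∧
        Ternary.mulM 14 (rootRows.getD r.val oneM) (evalM rootRows [r.val, r.val]) = oneM := by
      decide +kernel
    rw [rootMat_eq, xMat_two, ← Ternary.toM_mulM 14 pos (h r).1 (h r).2.1, (h r).2.2, toM_one]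
  inv_val := by
    have h : ∀ r : Fin chevG2.nroots, Ternary.okM 14 (rootRows.getD r.val oneM) = true ∧
        Ternary.okM 14 (evalM rootRows [r.val, r.val]) = true ∧
        Ternary.mulM 14 (evalM rootRows [r.val, r.val]) (rootRows.getD r.val oneM) = oneM := by
      decide +kernel
    rw [rootMat_eq, xMat_two, ← Ternary.toM_mulM 14 pos (h r).2.1 (h r).1, (h r).2.2, toM_one]

/-- A root element at one, in the group. -/
def rootElt (r : ℕ) : chevG2.group (ZMod 3) :=
  if h : r < chevG2.nroots then ⟨rootGL ⟨r, h⟩, Subgroup.subset_closure ⟨⟨r, h⟩, 1, rfl⟩⟩ else 1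

/-- The matrix of an element. -/
def coeM : chevG2.group (ZMod 3) →* Matrix chevG2.Idx chevG2.Idx (ZMod 3) :=
  (Units.coeHom _).comp (chevG2.group (ZMod 3)).subtype

theorem coeM_injective : Function.Injective coeM := fun _ _ h => Subtype.ext (Units.ext h)

theorem coeM_root (r : ℕ) (hr : r < rootRows.length) :
    coeM (rootElt r) = Ternary.toM 14 pos (rootRows.getD r oneM) := by
  have hr' : r < chevG2.nroots := hr
  rw [rootElt, dif_pos hr']
  exact rootMat_eq ⟨r, hr'⟩

/-- The element of a word in root elements. -/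
def elt (w : List ℕ) : chevG2.group (ZMod 3) := (w.map rootElt).prod

theorem elt_invWord (w : List ℕ) : elt (invWord w) = (elt w)⁻¹ := by
  have h3 : ∀ r, rootElt r * rootElt r = (rootElt r)⁻¹ := by
    intro r
    by_cases h : r < chevG2.nroots
    · refine eq_inv_of_mul_eq_one_left (coeM_injective ?_)
      have hk : ∀ r : Fin chevG2.nroots, okEval rootRows [r.val, r.val, r.val] = true ∧
          evalM rootRows [r.val, r.val, r.val] = oneM := by decide +kernel
      have h1 := toM_eval rootRows coeM rootElt coeM_root [r, r, r]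
        (by simp [show r < rootRows.length from h]) (hk ⟨r, h⟩).1
      rw [(hk ⟨r, h⟩).2, toM_one] at h1
      simpa [mul_assoc] using h1
    · simp [rootElt, h]
  induction w with
  | nil => simp [invWord, elt]
  | cons r w ih =>
    have : invWord (r :: w) = invWord w ++ [r, r] := by simp [invWord]
    simp only [elt] at ih ⊢
    rw [this, List.map_append, List.prod_append, ih]
    simp [h3]

/-- The two generators. -/
def gens (l : ℕ) : chevG2.group (ZMod 3) := if l = 0 then elt wordX else elt wordY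

/-- The map from the free group. -/
def pres : FreeGroup (Fin 2) →* chevG2.group (ZMod 3) := FreeGroup.lift fun i => gens i.1

theorem coeM_lett : ∀ l, l < genRows.length → coeM (lett gens l) = Ternary.toM 14 pos (genRows.getD l oneM) := by
  have hw : ∀ w ∈ [wordX, wordY, invWord wordX, invWord wordY],
      coeM (elt w) = Ternary.toM 14 pos (evalM rootRows w) := by
    intro w hw
    have hc : ∀ w ∈ [wordX, wordY, invWord wordX, invWord wordY],
        (w.all fun r => Nat.blt r rootRows.length) = true ∧ okEval rootRows w = true := by decide +kernel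
    exact toM_eval rootRows coeM rootElt coeM_root w (hc w hw).1 (hc w hw).2
  intro l hl
  rw [show genRows.length = 4 from rfl] at hl
  interval_cases l
  · exact hw wordX (by simp)
  · exact hw wordY (by simp)
  · rw [lett, if_neg (by omega)]
    show coeM (elt wordX)⁻¹ = _
    rw [← elt_invWord]
    exact hw (invWord wordX) (by simp)
  · rw [lett, if_neg (by omega)]
    show coeM (elt wordY)⁻¹ = _
    rw [← elt_invWord]
    exact hw (invWord wordY) (by simp)

theorem pres_fgen (l : ℕ) : pres (fgen l) = gens l := by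
  rcases l with _ | l <;> simp [pres, fgen, gens]

theorem pres_word (w : List ℕ) (h1 : (w.all fun r => Nat.blt r genRows.length) = true)
    (h2 : okEval genRows w = true) : coeM (pres (wval fgen w)) = Ternary.toM 14 pos (evalM genRows w) := by
  rw [map_wval, funext pres_fgen]
  exact toM_eval genRows coeM (lett gens) coeM_lett w h1 h2

theorem rels_check : (relWords.all fun w => (w.all fun r => Nat.blt r genRows.length) &&
    okEval genRows w && decide (evalM genRows w = oneM)) = true := by decide +kernel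

theorem words_check : ((List.range rootRows.length).all fun r =>
    ((rootWords.getD r []).all fun l => Nat.blt l genRows.length) && okEval genRows (rootWords.getD r []) &&
    decide (evalM genRows (rootWords.getD r []) = rootRows.getD r oneM)) = true := by decide +kernel

theorem pres_rel : ∀ r ∈ relWords, pres (wval fgen r) = 1 := by
  intro r hr
  have h := List.all_eq_true.1 rels_check r hr
  simp only [Bool.and_eq_true, decide_eq_true_eq] at h
  refine coeM_injective ?_
  rw [pres_word r h.1.1 h.1.2, h.2, toM_one, map_one]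

theorem pres_surjective : Function.Surjective pres := by
  have hr : ∀ r : Fin chevG2.nroots, rootElt r ∈ pres.range := by
    intro r
    have h := List.all_eq_true.1 words_check r.val (List.mem_range.2 r.2)
    simp only [Bool.and_eq_true, decide_eq_true_eq] at h
    exact ⟨_, coeM_injective (by rw [pres_word _ h.1.1 h.1.2, h.2, coeM_root r r.2])⟩
  suffices hle : chevG2.group (ZMod 3) ≤ pres.range.map (chevG2.group (ZMod 3)).subtype by
    intro g
    obtain ⟨x, ⟨f, rfl⟩, hx⟩ := hle g.2
    exact ⟨f, Subtype.ext hx⟩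
  refine (Subgroup.closure_le _).2 ?_
  rintro g ⟨r, t, hg⟩
  have ht : t = 0 ∨ t = 1 ∨ t = 2 := (by decide : ∀ t : ZMod 3, t = 0 ∨ t = 1 ∨ t = 2) t
  rcases ht with rfl | rfl | rfl
  · rw [show g = 1 from Units.ext (hg.trans (xMat_zero r))]
    exact one_mem _
  · exact ⟨_, hr r, Units.ext (by rw [hg]; simp [rootElt, r.2, rootGL])⟩
  · refine ⟨_, inv_mem (hr r), Units.ext (by rw [hg]; simp [rootElt, r.2, rootGL])⟩

end CfsgLib.SchurTable.GTwoThree
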