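import Cfsg.Agent.Lib.SchurTable.SzEightData

/-! Kernel checks of the certificate for the Suzuki group with 29120 elements. -/

set_option autoImplicit false
set_option maxRecDepth 100000
set_option maxHeartbeats 0

namespace CfsgLib.SchurTable.SzEight

theorem checkInv_true : checkInv data data.n 0 = true := by decide +kernel

theorem checkCover_true : checkCover data labels data.n 0 = true := by decide +kernel

theorem checkBound_true : checkBound data bound = true := by decide +kernel

end CfsgLib.SchurTable.SzEight
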