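import Cfsg.Agent.Lib.SchurTable.SzEightData

/-! Kernel checks of the certificate for the Suzuki group with 29120 elements. -/

set_option autoImplicit false
set_option maxRecDepth 100000
set_option maxHeartbeats 0

namespace CfsgLib.SchurTable.SzEight

theorem checkEdges_true : checkEdges data (2 * data.n) 0 = true := by decide +kernel

end CfsgLib.SchurTable.SzEight
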