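import Cfsg.Agent.Lib.SuzukiMatrix.Bridge
import Cfsg.Agent.Lib.SchurTable.SzEightData

/-!
Two generators of the Suzuki group over a field with eight elements satisfy the tabulated relators.
-/

set_option autoImplicit false
set_option maxRecDepth 20000

namespace CfsgLib.SchurTable.SzEight

open CfsgLib.Suzuki Matrix

universe u

/-- Product in the coded field. -/
def fmul (a b : ℕ) : ℕ := (2821848294356612419217921029917578219971947684264937521152 >>> (3 * (8 * a + b))) &&& 7

/-- The square map. -/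
def fsq (a : ℕ) : ℕ := fmul a a

/-- The map `θ`. -/
def fsig (a : ℕ) : ℕ := fsq (fsq a)

/-- The inverse. -/
def finv (a : ℕ) : ℕ := fmul (fsq a) (fsig a)

theorem fmul_lt (a b : ℕ) : fmul a b < 8 := Nat.lt_succ_of_le Nat.and_le_right

/-- Entry of a coded matrix. -/
def ent (A : List ℕ) (i j : ℕ) : ℕ := A.getD (4 * i + j) 0

/-- Product of coded matrices. -/
def mulL (A B : List ℕ) : List ℕ :=
  (List.range 16).map fun p =>
    (fmul (ent A (p / 4) 0) (ent B 0 (p % 4)) ^^^ fmul (ent A (p / 4) 1) (ent B 1 (p % 4))) ^^^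
      (fmul (ent A (p / 4) 2) (ent B 2 (p % 4)) ^^^ fmul (ent A (p / 4) 3) (ent B 3 (p % 4)))

/-- All entries are coded elements. -/
def okL (A : List ℕ) : Bool := A.all fun a => Nat.blt a 8

/-- The identity. -/
def oneL : List ℕ := [1, 0, 0, 0, 0, 1, 0, 0, 0, 0, 1, 0, 0, 0, 0, 1]

/-- The translations. -/
def tL (a b : ℕ) : List ℕ :=
  [1, a, b ^^^ fmul (fsig a) a, (fmul a b ^^^ fmul (fsig a) (fsq a)) ^^^ fsig b,
   0, 1, fsig a, b, 0, 0, 1, a, 0, 0, 0, 1]

/-- The torus. -/
def dL (k : ℕ) : List ℕ :=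
  [fmul k (fsq k), 0, 0, 0, 0, fsq k, 0, 0, 0, 0, finv (fsq k), 0, 0, 0, 0, finv (fmul k (fsq k))]

/-- The involution. -/
def wL : List ℕ := [0, 0, 0, 1, 0, 0, 1, 0, 0, 1, 0, 0, 1, 0, 0, 0]

/-- The two generators and their inverses. -/
def letters : List (List ℕ) := [[2, 2, 3, 5, 5, 6, 1, 2, 1, 5, 6, 3, 2, 7, 2, 3],
  [6, 3, 6, 2, 6, 4, 4, 4, 2, 6, 4, 3, 1, 6, 0, 3],
  [3, 3, 2, 5, 2, 6, 1, 3, 7, 5, 6, 2, 2, 1, 5, 2],
  [3, 3, 4, 2, 0, 4, 4, 6, 6, 6, 4, 3, 1, 2, 6, 6]]

/-- The coded value of a word. -/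
def prodL : List ℕ → List ℕ
  | [] => oneL
  | l :: w => mulL (letters.getD l oneL) (prodL w)

/-- Words for the translations `T(a,0)`. -/
def wordsA : List (List ℕ) := [[],
    [1, 2, 1, 0, 1, 0, 1, 1],
    [0, 0, 3, 3, 2, 3, 2, 2, 3, 3, 2],
    [0, 0, 3, 3, 2, 2, 3, 3, 3, 0],
    [1, 0, 3, 3, 3, 3, 3, 0, 3],
    [1, 1, 1, 1, 0, 1, 2, 3, 3],
    [1, 0, 3, 3, 3, 3, 2, 1],
    [0, 1, 0, 0, 1, 2, 2, 3, 0, 1, 1]]

/-- Words for the translations `T(0,b)`. -/
def wordsB : List (List ℕ) := [[],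
    [2, 3, 3, 0, 3, 2, 1, 2, 2, 1],
    [1, 1, 2, 3, 0, 3, 0],
    [1, 0, 3, 0, 1, 2, 3, 0, 3, 3],
    [0, 3, 2, 3, 2, 1, 0, 1, 1, 2],
    [1, 2, 1, 1, 2, 3, 0],
    [2, 3, 3, 3, 3, 2, 2, 1, 1],
    [0, 0, 3, 2, 3, 2, 2, 3, 3]]

/-- Words for the torus. -/
def wordsD : List (List ℕ) := [] :: [[],
    [1, 0, 1, 2, 3, 0, 1, 2],
    [0, 3, 0, 3, 3, 0, 3, 3],
    [0, 0, 3, 3, 0, 1, 2, 1, 0, 1, 2],
    [0, 3, 2, 1, 0, 3, 2, 3],
    [1, 1, 2, 1, 1, 2, 1, 2],
    [0, 3, 2, 3, 0, 3, 2, 1, 1, 2, 2]]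

/-- A word for the involution. -/
def wordW : List ℕ := [0, 0, 3, 3, 3, 2, 3, 3, 0]

/-- The checked facts about the words. -/
def facts : Bool :=
  (relWords.all fun w => w.all fun l => Nat.blt l 4) &&
  ((relWords.all fun w => prodL w == oneL) &&
  ((List.range 8).all (fun a => ((wordsA.getD a []).all fun l => Nat.blt l 4) &&
      (prodL (wordsA.getD a []) == tL a 0)) &&
  ((List.range 8).all (fun a => ((wordsB.getD a []).all fun l => Nat.blt l 4) &&
      (prodL (wordsB.getD a []) == tL 0 a)) &&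
  ((List.range 8).all (fun k => (k == 0) || (((wordsD.getD k []).all fun l => Nat.blt l 4) &&
      (prodL (wordsD.getD k []) == dL k))) &&
  ((wordW.all fun l => Nat.blt l 4) && (prodL wordW == wL))))))

theorem facts_true : facts = true := by decide +kernel

theorem letters_ok : mulL (letters.getD 0 []) (letters.getD 2 []) = oneL ∧
    mulL (letters.getD 1 []) (letters.getD 3 []) = oneL ∧ letters.all okL = true ∧
    mulL (mulL (tL 5 7) wL) (mulL (tL 4 5) (dL 7)) = letters.getD 0 [] ∧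
    mulL (mulL (tL 2 6) wL) (mulL (tL 6 5) (dL 1)) = letters.getD 1 [] := by decide +kernel

section Field

variable {F : Type u} [Field F]

/-- An element of the field from its code. -/
def ι (α : F) (k : ℕ) : F :=
  (if k.testBit 0 then 1 else 0) + (if k.testBit 1 then α else 0) +
    (if k.testBit 2 then α * α else 0)

theorem ι_zero (α : F) : ι α 0 = 0 := by simp [ι]
theorem ι_one (α : F) : ι α 1 = 1 := by simp [ι, Nat.testBit]

/-- The hypotheses on the root. -/
structure Root (α : F) : Prop where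
  root : α * α * α + α + 1 = 0
  two : (2 : F) = 0

variable {α : F} (hα : Root α)
include hα

theorem ι_add {a b : ℕ} (ha : a < 8) (hb : b < 8) : ι α (a ^^^ b) = ι α a + ι α b := by
  have h2 := hα.two
  interval_cases a <;> interval_cases b <;> simp [ι, Nat.testBit] <;> grind

theorem ι_mul {a b : ℕ} (ha : a < 8) (hb : b < 8) : ι α (fmul a b) = ι α a * ι α b := by
  obtain ⟨h3, h2⟩ := hα
  interval_cases a <;> interval_cases b <;> simp [ι, Nat.testBit, fmul] <;> grind

theorem ι_ne_zero {k : ℕ} (hk : k < 8) (h0 : k ≠ 0) : ι α k ≠ 0 := by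
  intro h
  have h1 := ι_mul hα (fmul_lt (fsq k) (fsig k)) hk
  rw [h, mul_zero, show fmul (fmul (fsq k) (fsig k)) k = 1 by interval_cases k <;> simp_all <;> decide,
    ι_one] at h1
  exact one_ne_zero h1

theorem ι_finv {k : ℕ} (hk : k < 8) (h0 : k ≠ 0) : ι α (finv k) = (ι α k)⁻¹ := by
  refine eq_inv_of_mul_eq_one_left ?_
  show ι α (fmul (fsq k) (fsig k)) * ι α k = 1
  rw [← ι_mul hα (fmul_lt _ _) hk,
    show fmul (fmul (fsq k) (fsig k)) k = 1 by interval_cases k <;> simp_all <;> decide, ι_one]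

theorem ι_fsq {a : ℕ} (ha : a < 8) : ι α (fsq a) = ι α a ^ 2 := by
  rw [fsq, ι_mul hα ha ha, sq]

theorem ι_fsig {a : ℕ} (ha : a < 8) : ι α (fsig a) = ι α a ^ 4 := by
  rw [fsig, ι_fsq hα (a := fsq a) (fmul_lt _ _), ι_fsq hα ha, ← pow_mul]

theorem ι_injective {a b : ℕ} (ha : a < 8) (hb : b < 8) (h : ι α a = ι α b) : a = b := by
  by_contra hne
  refine ι_ne_zero hα (k := a ^^^ b) (Nat.xor_lt_two_pow (n := 3) ha hb) ?_ ?_
  · simpa [Nat.xor_eq_zero_iff] using hne
  · rw [ι_add hα ha hb, h, ← two_mul, hα.two, zero_mul]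

theorem exists_code [Fintype F] (hF : Fintype.card F = 8) (x : F) : ∃ k < 8, ι α k = x := by
  have hb : Function.Bijective fun k : Fin 8 => ι α k.1 := by
    refine (Fintype.bijective_iff_injective_and_card _).2 ⟨fun a b h => ?_, by simp [hF]⟩
    exact Fin.ext (ι_injective hα a.2 b.2 h)
  obtain ⟨k, hk⟩ := hb.2 x
  exact ⟨k.1, k.2, hk⟩

omit hα in
/-- The matrix with the given codes. -/
def toM (α : F) (A : List ℕ) : Matrix (Fin 4) (Fin 4) F := Matrix.of fun i j => ι α (ent A i j)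

omit hα in
theorem ent_lt {A : List ℕ} (hA : okL A = true) (i j : ℕ) : ent A i j < 8 := by
  unfold ent
  by_cases h : 4 * i + j < A.length
  · rw [List.getD_eq_getElem _ _ h]
    simpa [Nat.blt_eq] using List.all_eq_true.1 hA _ (List.getElem_mem h)
  · rw [List.getD_eq_default _ _ (by omega)]
    norm_num

omit hα in
theorem okL_mulL (A B : List ℕ) : okL (mulL A B) = true := by
  refine List.all_eq_true.2 fun x hx => ?_
  obtain ⟨p, -, rfl⟩ := List.mem_map.1 hx
  rw [Nat.blt_eq]
  exact Nat.xor_lt_two_pow (n := 3) (Nat.xor_lt_two_pow (n := 3) (fmul_lt _ _) (fmul_lt _ _))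
    (Nat.xor_lt_two_pow (n := 3) (fmul_lt _ _) (fmul_lt _ _))

theorem toM_mulL {A B : List ℕ} (hA : okL A = true) (hB : okL B = true) :
    toM α (mulL A B) = toM α A * toM α B := by
  ext i j
  have hlt : ∀ a b, fmul a b ^^^ fmul a b < 8 := fun a b =>
    Nat.xor_lt_two_pow (n := 3) (fmul_lt _ _) (fmul_lt _ _)
  have he : ent (mulL A B) i j =
      (fmul (ent A i 0) (ent B 0 j) ^^^ fmul (ent A i 1) (ent B 1 j)) ^^^
        (fmul (ent A i 2) (ent B 2 j) ^^^ fmul (ent A i 3) (ent B 3 j)) := by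
    fin_cases i <;> fin_cases j <;> rfl
  simp only [toM, Matrix.of_apply, Matrix.mul_apply, Fin.sum_univ_four, he]
  rw [ι_add hα (Nat.xor_lt_two_pow (n := 3) (fmul_lt _ _) (fmul_lt _ _))
      (Nat.xor_lt_two_pow (n := 3) (fmul_lt _ _) (fmul_lt _ _)),
    ι_add hα (fmul_lt _ _) (fmul_lt _ _), ι_add hα (fmul_lt _ _) (fmul_lt _ _),
    ι_mul hα (ent_lt hA _ _) (ent_lt hB _ _), ι_mul hα (ent_lt hA _ _) (ent_lt hB _ _),
    ι_mul hα (ent_lt hA _ _) (ent_lt hB _ _), ι_mul hα (ent_lt hA _ _) (ent_lt hB _ _)]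
  simp only [Fin.val_zero, Fin.val_one, Fin.val_two, show ((3 : Fin 4) : ℕ) = 3 from rfl]
  ring

theorem toM_one : toM α oneL = 1 := by
  ext i j
  fin_cases i <;> fin_cases j <;> simp [toM, oneL, ent, ι, Nat.testBit]

end Field

section Group

variable {F : Type u} [Field F] [Fintype F] (h : SzHyp F 1) {α : F} (hα : Root α)

/-- The matrix of an element. -/
def valHom : Cfsg.Sz F 1 →* Matrix (Fin 4) (Fin 4) F where
  toFun g := ((g : SpecialLinearGroup (Fin 4) F) : Matrix (Fin 4) (Fin 4) F)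
  map_one' := rfl
  map_mul' _ _ := rfl

omit [Fintype F] in
theorem valHom_injective : Function.Injective (valHom (F := F)) :=
  fun a b e => Subtype.ext (Subtype.ext e)

/-- The unit with a given code. -/
noncomputable def unit (α : F) (k : ℕ) : Fˣ :=
  haveI := Classical.dec (ι α k ≠ 0)
  if hk : ι α k ≠ 0 then Units.mk0 _ hk else 1

include hα

theorem valHom_tS {a b : ℕ} (ha : a < 8) (hb : b < 8) :
    valHom (tS h (ι α a) (ι α b)) = toM α (tL a b) := by
  have hfa : fsig a < 8 := fmul_lt _ _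
  have hfb : fsig b < 8 := fmul_lt _ _
  ext i j
  fin_cases i <;> fin_cases j <;>
    simp [valHom, tS, tMat, toM, tL, ent, ι_zero, ι_one, ovf, sig, ι_fsig hα ha, ι_fsig hα hb,
      ι_fsq hα ha, ι_add hα hb (fmul_lt _ _), ι_mul hα hfa ha, ι_mul hα ha hb,
      ι_mul hα hfa (show fsq a < 8 from fmul_lt _ _), ι_add hα (fmul_lt _ _) (fmul_lt _ _),
      ι_add hα (Nat.xor_lt_two_pow (n := 3) (fmul_lt a b) (fmul_lt (fsig a) (fsq a))) hfb]

theorem valHom_dS {k : ℕ} (hk : k < 8) (h0 : k ≠ 0) :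
    valHom (dS h (unit α k)) = toM α (dL k) := by
  have hne := ι_ne_zero hα hk h0
  have hu : unit α k = Units.mk0 (ι α k) hne := dif_pos hne
  have hs : fsq k < 8 := fmul_lt _ _
  have hm : fmul k (fsq k) < 8 := fmul_lt _ _
  have hs0 : fsq k ≠ 0 := by
    interval_cases k <;> simp_all <;> decide
  have hm0 : fmul k (fsq k) ≠ 0 := by
    interval_cases k <;> simp_all <;> decide
  ext i j
  fin_cases i <;> fin_cases j <;>
    simp [valHom, dS, dMat, toM, dL, ent, ι_zero, rho, hu, ι_finv hα hs hs0, ι_finv hα hm hm0,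
      ι_fsq hα hk, ι_mul hα hk hs, mul_comm]

theorem valHom_wS : valHom (wS h) = toM α wL := by
  ext i j
  fin_cases i <;> fin_cases j <;> simp [valHom, wS, wMat, toM, wL, ent, ι_zero, ι_one]

omit hα in
/-- The images of the free generators. -/
noncomputable def gens (α : F) : Fin 2 → Cfsg.Sz F 1 :=
  ![tS h (ι α 5) (ι α 7) * wS h * (tS h (ι α 4) (ι α 5) * dS h (unit α 7)),
    tS h (ι α 2) (ι α 6) * wS h * (tS h (ι α 6) (ι α 5) * dS h (unit α 1))]

omit hα in
/-- The presentation map. -/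
noncomputable def pres (α : F) : FreeGroup (Fin 2) →* Cfsg.Sz F 1 := FreeGroup.lift (gens h α)

theorem valHom_lett {l : ℕ} (hl : l < 4) :
    valHom (pres h α (lett fgen l)) = toM α (letters.getD l oneL) := by
  obtain ⟨e02, e13, hok, ex, ey⟩ := letters_ok
  have okT : ∀ a < 8, ∀ b < 8, okL (tL a b) = true := by decide +kernel
  have okD : ∀ k < 8, okL (dL k) = true := by decide +kernel
  have okW : okL wL = true := by decide +kernel
  have h0 : valHom (gens h α 0) = toM α (letters.getD 0 []) := by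
    rw [← ex, toM_mulL hα (okL_mulL _ _) (okL_mulL _ _),
      toM_mulL hα (okT _ (by norm_num) _ (by norm_num)) okW,
      toM_mulL hα (okT _ (by norm_num) _ (by norm_num)) (okD _ (by norm_num))]
    simp only [gens, Matrix.cons_val_zero, map_mul]
    rw [valHom_tS h hα (by norm_num) (by norm_num), valHom_tS h hα (by norm_num) (by norm_num),
      valHom_wS h hα, valHom_dS h hα (by norm_num) (by norm_num)]
  have h1 : valHom (gens h α 1) = toM α (letters.getD 1 []) := by
    rw [← ey, toM_mulL hα (okL_mulL _ _) (okL_mulL _ _),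
      toM_mulL hα (okT _ (by norm_num) _ (by norm_num)) okW,
      toM_mulL hα (okT _ (by norm_num) _ (by norm_num)) (okD _ (by norm_num))]
    simp only [gens, Matrix.cons_val_one, Matrix.cons_val_zero, map_mul]
    rw [valHom_tS h hα (by norm_num) (by norm_num), valHom_tS h hα (by norm_num) (by norm_num),
      valHom_wS h hα, valHom_dS h hα (by norm_num) (by norm_num)]
  have hinv : ∀ (g : Cfsg.Sz F 1) (A B : List ℕ), okL A = true → okL B = true → valHom g = toM α A →
      mulL A B = oneL → valHom g⁻¹ = toM α B := by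
    intro g A B hA hB hg hAB
    calc valHom g⁻¹ = valHom g⁻¹ * (toM α A * toM α B) := by
          rw [← toM_mulL hα hA hB, hAB, toM_one hα, mul_one]
      _ = toM α B := by rw [← mul_assoc, ← hg, ← map_mul, inv_mul_cancel, map_one, one_mul]
  have hokl : ∀ i < 4, okL (letters.getD i []) = true := fun i hi => by
    rw [List.getD_eq_getElem _ _ (by simpa [letters] using hi)]
    exact List.all_eq_true.1 hok _ (List.getElem_mem _)
  interval_cases l
  · simpa [pres, lett, fgen, letters] using h0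
  · simpa [pres, lett, fgen, letters] using h1
  · have := hinv _ _ _ (hokl 0 (by omega)) (hokl 2 (by omega)) h0 e02
    simpa [pres, lett, fgen, letters] using this
  · have := hinv _ _ _ (hokl 1 (by omega)) (hokl 3 (by omega)) h1 e13
    simpa [pres, lett, fgen, letters] using this

omit hα in
theorem okL_prodL : ∀ w, okL (prodL w) = true
  | [] => by decide +kernel
  | _ :: _ => okL_mulL _ _

theorem valHom_word : ∀ w : List ℕ, (∀ l ∈ w, l < 4) →
    valHom (pres h α (wval fgen w)) = toM α (prodL w)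
  | [], _ => by rw [show wval fgen [] = 1 from rfl, map_one, map_one]; exact (toM_one hα).symm
  | l :: w, hw => by
    have hl := hw l (by simp)
    rw [show wval fgen (l :: w) = lett fgen l * wval fgen w by simp [wval], map_mul, map_mul,
      valHom_lett h hα hl, valHom_word w fun k hk => hw k (by simp [hk]), prodL,
      toM_mulL hα ?_ (okL_prodL _)]
    rw [List.getD_eq_getElem _ _ (by simpa [letters] using hl)]
    exact List.all_eq_true.1 letters_ok.2.2.1 _ (List.getElem_mem _)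

theorem pres_word {w : List ℕ} (hw : (w.all fun l => Nat.blt l 4) = true) {A : List ℕ}
    (hA : (prodL w == A) = true) {g : Cfsg.Sz F 1} (hg : valHom g = toM α A) :
    pres h α (wval fgen w) = g := by
  refine valHom_injective ?_
  rw [valHom_word h hα w (fun l hl => by simpa [Nat.blt_eq] using List.all_eq_true.1 hw l hl), hg,
    eq_of_beq hA]

theorem pres_rel : ∀ i < relWords.length, pres h α (wval fgen (relWords.getD i [])) = 1 := by
  intro i hi
  have hf := facts_true
  simp only [facts, Bool.and_eq_true] at hf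
  rw [List.getD_eq_getElem _ _ hi]
  exact pres_word h hα (List.all_eq_true.1 hf.1 _ (List.getElem_mem _))
    (List.all_eq_true.1 hf.2.1 _ (List.getElem_mem _)) (by rw [map_one, toM_one hα])

theorem pres_surjective (hF : Fintype.card F = 8) : Function.Surjective (pres h α) := by
  have hf := facts_true
  simp only [facts, Bool.and_eq_true, List.all_eq_true (l := List.range 8), List.mem_range,
    Bool.or_eq_true, beq_iff_eq] at hf
  obtain ⟨-, -, hA, hB, hD, hW⟩ := hf
  set K := (pres h α).range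
  have mW : wS h ∈ K := ⟨_, pres_word h hα hW.1 (beq_iff_eq.2 hW.2) (valHom_wS h hα)⟩
  have mT : ∀ a b, tS h a b ∈ K := by
    intro a b
    obtain ⟨i, hi, rfl⟩ := exists_code hα hF a
    obtain ⟨j, hj, rfl⟩ := exists_code hα hF b
    have e : tS h (ι α i) (ι α j) = tS h (ι α i) (ι α 0) * tS h (ι α 0) (ι α j) := by
      rw [tS_mul, ι_zero]; simp
    rw [e]
    exact mul_mem ⟨_, pres_word h hα (hA i hi).1 (beq_iff_eq.2 (hA i hi).2) (valHom_tS h hα hi (by norm_num))⟩
      ⟨_, pres_word h hα (hB j hj).1 (beq_iff_eq.2 (hB j hj).2) (valHom_tS h hα (by norm_num) hj)⟩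
  have mD : ∀ k, dS h k ∈ K := by
    intro k
    obtain ⟨i, hi, hik⟩ := exists_code hα hF (k : F)
    have h0 : i ≠ 0 := fun e => k.ne_zero (by rw [← hik, e, ι_zero])
    have hu : unit α i = k := Units.ext (by rw [unit, dif_pos (ι_ne_zero hα hi h0)]; simpa using hik)
    have := (hD i hi).resolve_left h0
    exact hu ▸ ⟨_, pres_word h hα this.1 (beq_iff_eq.2 this.2) (valHom_dS h hα hi h0)⟩
  intro g
  show g ∈ K
  rcases mem_ovoid.1 (smul_ovoid g.2 (pInf_mem (F := F) (m := 1))) with e | ⟨a, b, e⟩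
  · obtain ⟨c, d, k, rfl⟩ := exists_tS_dS h e
    exact mul_mem (mT c d) (mD k)
  · have h1 : ((tS h a b * wS h)⁻¹ * g) • (pInf : Projectivization F (Fin 4 → F)) = pInf := by
      rw [mul_smul, inv_smul_eq_iff, mul_smul, wS_smul_pInf, tS_smul_p0]
      exact e
    obtain ⟨c, d, k, hk⟩ := exists_tS_dS h h1
    rw [eq_mul_of_inv_mul_eq hk]
    exact mul_mem (mul_mem (mT a b) mW) (mul_mem (mT c d) (mD k))

omit h hα in
theorem exists_root (hF : Fintype.card F = 8) (hh : SzHyp F 1) : ∃ α : F, Root α := by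
  classical
  have h2 := hh.two_zero
  obtain ⟨a, -, ha⟩ := Finset.exists_mem_notMem_of_card_lt_card
    (s := ({0, 1} : Finset F)) (t := Finset.univ) (by
      rw [Finset.card_univ, hF, Finset.card_pair zero_ne_one]; norm_num)
  simp only [Finset.mem_insert, Finset.mem_singleton, not_or] at ha
  have h8 := FiniteField.pow_card a
  rw [hF] at h8
  have hp : a * (a - 1) * ((a * a * a + a + 1) * (a * a * a + a * a + 1)) = 0 := by
    have e : a ^ 8 - a = 0 := by rw [h8, sub_self]
    linear_combination e + (a ^ 5 - a ^ 4) * h2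
  rcases mul_eq_zero.1 hp with e | e
  · rcases mul_eq_zero.1 e with e | e
    exacts [absurd e ha.1, absurd (sub_eq_zero.1 e) ha.2]
  · rcases mul_eq_zero.1 e with e | e
    · exact ⟨a, e, h2⟩
    · refine ⟨a⁻¹, ?_, h2⟩
      have := ha.1
      field_simp
      linear_combination e

end Group

end CfsgLib.SchurTable.SzEight
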