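import Mathlib

/-!
Square matrices over the field with three elements, each row packed as two bit masks in one number.
-/

set_option autoImplicit false

namespace CfsgLib.SchurTable.Ternary

variable (n : ℕ)

/-- The positive mask. -/
def pos (r : ℕ) : ℕ := r &&& (2 ^ n - 1)

/-- The negative mask. -/
def neg (r : ℕ) : ℕ := r >>> n

/-- The value of an entry. -/
def entry (r j : ℕ) : ZMod 3 :=
  (if (pos n r).testBit j then 1 else 0) - (if (neg n r).testBit j then 1 else 0)

/-- Pack two masks. -/
def pk (p q : ℕ) : ℕ := (p &&& (2 ^ n - 1)) ||| (q <<< n)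

theorem pos_pk (p q j : ℕ) (hj : j < n) : (pos n (pk n p q)).testBit j = p.testBit j := by
  simp [pos, pk, Nat.testBit_shiftLeft, hj]

theorem neg_pk (p q j : ℕ) (hj : j < n) : (neg n (pk n p q)).testBit j = q.testBit j := by
  simp [neg, pk, Nat.testBit_shiftLeft, Nat.testBit_shiftRight, hj, show ¬ n + j < n by omega,
    show n ≤ n + j by omega]

/-- The bitwise sum of two packed rows. -/
def addRow (a b : ℕ) : ℕ :=
  let ap := pos n a; let an := neg n a; let bp := pos n b; let bn := neg n b
  let M := 2 ^ n - 1
  pk n (((ap &&& (M ^^^ (bp ||| bn))) ||| (bp &&& (M ^^^ (ap ||| an)))) ||| (an &&& bn))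
    (((an &&& (M ^^^ (bp ||| bn))) ||| (bn &&& (M ^^^ (ap ||| an)))) ||| (ap &&& bp))

/-- A row whose two masks do not meet. -/
def okRow (r : ℕ) : Bool := (pos n r &&& neg n r) == 0

theorem ok_entry {r : ℕ} (h : okRow n r = true) (j : ℕ) :
    ¬ ((pos n r).testBit j = true ∧ (neg n r).testBit j = true) := by
  intro ⟨h1, h2⟩
  have := congrArg (fun x => x.testBit j) (eq_of_beq h)
  simp [h1, h2] at this

theorem pos_addRow (a b j : ℕ) (hj : j < n) : (pos n (addRow n a b)).testBit j =
    (((pos n a).testBit j && !((pos n b).testBit j || (neg n b).testBit j)) ||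
      ((pos n b).testBit j && !((pos n a).testBit j || (neg n a).testBit j)) ||
      ((neg n a).testBit j && (neg n b).testBit j)) := by
  simp only [addRow]
  rw [pos_pk n _ _ j hj]
  simp [hj]

theorem neg_addRow (a b j : ℕ) (hj : j < n) : (neg n (addRow n a b)).testBit j =
    (((neg n a).testBit j && !((pos n b).testBit j || (neg n b).testBit j)) ||
      ((neg n b).testBit j && !((pos n a).testBit j || (neg n a).testBit j)) ||
      ((pos n a).testBit j && (pos n b).testBit j)) := by
  simp only [addRow]
  rw [neg_pk n _ _ j hj]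
  simp [hj]

/-- The negative of a row. -/
def negRow (r : ℕ) : ℕ := pk n (neg n r) (pos n r)

/-- Disjointness on the first `n` places. -/
def Good (r : ℕ) : Prop := ∀ j < n, ¬ ((pos n r).testBit j = true ∧ (neg n r).testBit j = true)

theorem entry_addRow {a b : ℕ} (ha : Good n a) (hb : Good n b) {j : ℕ} (hj : j < n) :
    entry n (addRow n a b) j = entry n a j + entry n b j := by
  have h1 := ha j hj
  have h2 := hb j hj
  unfold entry
  rw [pos_addRow n a b j hj, neg_addRow n a b j hj]
  revert h1 h2
  cases (pos n a).testBit j <;> cases (neg n a).testBit j <;> cases (pos n b).testBit j <;>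
    cases (neg n b).testBit j <;> simp <;> decide

theorem good_addRow {a b : ℕ} (ha : Good n a) (hb : Good n b) : Good n (addRow n a b) := by
  intro j hj
  have h1 := ha j hj
  have h2 := hb j hj
  rw [pos_addRow n a b j hj, neg_addRow n a b j hj]
  revert h1 h2
  cases (pos n a).testBit j <;> cases (neg n a).testBit j <;> cases (pos n b).testBit j <;>
    cases (neg n b).testBit j <;> simp

theorem entry_negRow (r : ℕ) {j : ℕ} (hj : j < n) : entry n (negRow n r) j = - entry n r j := by
  unfold entry negRow
  rw [pos_pk n _ _ j hj, neg_pk n _ _ j hj, neg_sub]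

theorem good_negRow {r : ℕ} (h : Good n r) : Good n (negRow n r) := by
  intro j hj ⟨h1, h2⟩
  rw [negRow, pos_pk n _ _ j hj] at h1
  rw [negRow, neg_pk n _ _ j hj] at h2
  exact h j hj ⟨h2, h1⟩

theorem entry_zero (j : ℕ) : entry n 0 j = 0 := by simp [entry, pos, neg]

theorem good_zero : Good n 0 := by intro j _; simp [pos, neg]

/-- The row of a product. -/
def mulRow (a : ℕ) (B : List ℕ) : ℕ → ℕ
  | 0 => 0
  | k + 1 =>
    if (pos n a).testBit k then addRow n (mulRow a B k) (B.getD k 0)
    else if (neg n a).testBit k then addRow n (mulRow a B k) (negRow n (B.getD k 0))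
    else mulRow a B k

/-- The product. -/
def mulM (A B : List ℕ) : List ℕ := A.map fun a => mulRow n a B n

/-- A valid matrix. -/
def okM (A : List ℕ) : Bool := A.length == n && A.all (okRow n)

theorem good_getD {B : List ℕ} (hB : okM n B = true) (k : ℕ) : Good n (B.getD k 0) := by
  by_cases hk : k < B.length
  · rw [List.getD_eq_getElem _ _ hk]
    simp only [okM, Bool.and_eq_true, List.all_eq_true] at hB
    exact fun j _ => ok_entry n (hB.2 _ (List.getElem_mem hk)) j
  · rw [List.getD_eq_default _ _ (by omega)]
    exact good_zero n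

theorem mulRow_spec {a : ℕ} {B : List ℕ} (hB : okM n B = true) (ha : Good n a) :
    ∀ k ≤ n, Good n (mulRow n a B k) ∧ ∀ j < n,
      entry n (mulRow n a B k) j = ∑ i ∈ Finset.range k, entry n a i * entry n (B.getD i 0) j := by
  intro k hk
  induction k with
  | zero => exact ⟨good_zero n, fun j _ => by simp [mulRow, entry_zero]⟩
  | succ k ih =>
    obtain ⟨hg, he⟩ := ih (by omega)
    have hak := ha k (by omega)
    rw [mulRow]
    by_cases hp : (pos n a).testBit k = true
    · have hn : (neg n a).testBit k = false := by simpa [hp] using hak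
      rw [if_pos hp]
      refine ⟨good_addRow n hg (good_getD n hB k), fun j hj => ?_⟩
      rw [entry_addRow n hg (good_getD n hB k) hj, he j hj, Finset.sum_range_succ,
        show entry n a k = 1 by simp [entry, hp, hn], one_mul]
    · rw [if_neg hp]
      by_cases hn : (neg n a).testBit k = true
      · rw [if_pos hn]
        refine ⟨good_addRow n hg (good_negRow n (good_getD n hB k)), fun j hj => ?_⟩
        rw [entry_addRow n hg (good_negRow n (good_getD n hB k)) hj, he j hj, Finset.sum_range_succ,
          entry_negRow n _ hj, show entry n a k = -1 by simp [entry, hp, hn], neg_one_mul]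
      · rw [if_neg hn]
        refine ⟨hg, fun j hj => ?_⟩
        rw [he j hj, Finset.sum_range_succ, show entry n a k = 0 by simp [entry, hp, hn], zero_mul,
          add_zero]

variable {ι : Type*} [Fintype ι] (e : ι ≃ Fin n)

/-- The matrix of a list of rows. -/
def toM (A : List ℕ) : Matrix ι ι (ZMod 3) := Matrix.of fun i j => entry n (A.getD (e i) 0) (e j)

theorem toM_mulM {A B : List ℕ} (hA : okM n A = true) (hB : okM n B = true) :
    toM n e (mulM n A B) = toM n e A * toM n e B := by
  ext i j
  have hl : A.length = n := by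
    simp only [okM, Bool.and_eq_true, beq_iff_eq] at hA; exact hA.1
  have hi : (e i : ℕ) < A.length := by rw [hl]; exact (e i).2
  simp only [toM, Matrix.of_apply, Matrix.mul_apply, mulM]
  rw [List.getD_eq_getElem _ _ (by simpa using hi), List.getElem_map,
    ← List.getD_eq_getElem _ 0 hi,
    (mulRow_spec n hB (good_getD n hA _) n le_rfl).2 _ (e j).2,
    ← Fin.sum_univ_eq_sum_range (fun k => entry n (A.getD (e i) 0) k * entry n (B.getD k 0) (e j))]
  exact (Equiv.sum_comp e fun k : Fin n => entry n (A.getD (e i) 0) k * entry n (B.getD k 0) (e j)).symm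

theorem okM_mulM {A B : List ℕ} (hA : okM n A = true) (hB : okM n B = true)
    (h : ((mulM n A B).all (okRow n)) = true) : okM n (mulM n A B) = true := by
  simp only [okM, Bool.and_eq_true, beq_iff_eq] at hA ⊢
  exact ⟨by simpa [mulM] using hA.1, h⟩

end CfsgLib.SchurTable.Ternary
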